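import Groth.Agent.ConeC13.Factor
import Groth.Agent.RelVALib.ContractMain
import Groth.Agent.H8Lim.RelSpecMap
import Groth.Prelude.Def_AffAlg

/-! The canonical map to the spectrum of the direct image algebra of a line bundle. -/

set_option autoImplicit false
set_option linter.style.haveILetI false
set_option backward.isDefEq.respectTransparency.types false
set_option maxHeartbeats 1000000

universe u

open CategoryTheory CategoryTheory.Limits AlgebraicGeometry TopologicalSpace Opposite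
open Groth.Agent.RelVALib

namespace Groth.Agent.ConeC13

theorem bijective_app_basicOpen {V Z : Scheme.{u}} (h : V ⟶ Z) [QuasiCompact h] [QuasiSeparated h] {W : Z.Opens}
    (hW : IsAffineOpen W) (hb : Function.Bijective (h.app W)) (r : Γ(Z, W)) :
    Function.Bijective (h.app (Z.basicOpen r)) := by
  let r' := h.app W r
  have heq : h ⁻¹ᵁ Z.basicOpen r = V.basicOpen r' := Scheme.preimage_basicOpen h r
  let g := h.appLE (Z.basicOpen r) (V.basicOpen r') heq.ge
  let := (Z.presheaf.map (homOfLE (Z.basicOpen_le r)).op).hom.toAlgebra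
  let := (V.presheaf.map (homOfLE (V.basicOpen_le r')).op).hom.toAlgebra
  haveI : IsLocalization.Away r Γ(Z, Z.basicOpen r) := hW.isLocalization_basicOpen r
  haveI : IsLocalization.Away r' Γ(V, V.basicOpen r') :=
    isLocalization_basicOpen_of_qcqs (h.isCompact_preimage hW.isCompact)
      (h.isQuasiSeparated_preimage hW.isQuasiSeparated) r'
  let j := RingEquiv.ofBijective (h.app W).hom hb
  have H : (Submonoid.powers r).map j.toMonoidHom = Submonoid.powers r' := Submonoid.map_powers _ r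
  let E := IsLocalization.ringEquivOfRingEquiv Γ(Z, Z.basicOpen r) Γ(V, V.basicOpen r') j H
  have hE : g.hom = (E : Γ(Z, Z.basicOpen r) →+* Γ(V, V.basicOpen r')) := by
    refine IsLocalization.ringHom_ext (Submonoid.powers r) (RingHom.ext fun x => ?_)
    show g (Z.presheaf.map (homOfLE (Z.basicOpen_le r)).op x) = E (algebraMap _ _ x)
    rw [IsLocalization.ringEquivOfRingEquiv_eq, ← CommRingCat.comp_apply, Scheme.Hom.map_appLE, Scheme.Hom.appLE]
    rfl
  have hg : Function.Bijective g := by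
    show Function.Bijective g.hom
    rw [hE]; exact E.bijective
  have hm : h.app (Z.basicOpen r) ≫ V.presheaf.map (homOfLE heq.ge).op = g := rfl
  haveI : IsIso g := (ConcreteCategory.isIso_iff_bijective _).2 hg
  haveI : IsIso (V.presheaf.map (homOfLE heq.ge).op) := by
    rw [show (homOfLE heq.ge).op = (eqToHom heq.symm).op from Subsingleton.elim _ _]; infer_instance
  haveI : IsIso (h.app (Z.basicOpen r) ≫ V.presheaf.map (homOfLE heq.ge).op) := hm ▸ inferInstance
  exact (ConcreteCategory.isIso_iff_bijective _).1 (IsIso.of_isIso_comp_right _ (V.presheaf.map (homOfLE heq.ge).op))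

set_option backward.isDefEq.respectTransparency false in
theorem isIso_app_of_affine_base {V Z Y : Scheme.{u}} (h : V ⟶ Z) [QuasiCompact h] [QuasiSeparated h] (π : Z ⟶ Y)
    [IsAffineHom π] (hb : ∀ U : Y.Opens, IsAffineOpen U → Function.Bijective (h.app (π ⁻¹ᵁ U))) (W : Z.Opens) :
    IsIso (h.app W) := by
  let φ : Z.sheaf ⟶ (TopCat.Sheaf.pushforward CommRingCat h.base).obj V.sheaf := ⟨h.c⟩
  let B : {O : Z.Opens // Function.Bijective (h.app O)} → Z.Opens := fun O => O.1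
  have hB : Opens.IsBasis (Set.range B) := by
    rw [Opens.isBasis_iff_nbhd]
    intro O z hz
    obtain ⟨U, hU, hzU, -⟩ := exists_isAffineOpen_mem_and_subset (X := Y) (x := π z) (U := ⊤) trivial
    have hA : IsAffineOpen (π ⁻¹ᵁ U) := hU.preimage π
    obtain ⟨r, hle, hzr⟩ := hA.exists_basicOpen_le (V := O) ⟨z, hz⟩ hzU
    exact ⟨Z.basicOpen r, ⟨⟨_, bijective_app_basicOpen h hA (hb U hU) r⟩, rfl⟩, hzr, hle⟩
  have hφ : IsIso φ := TopCat.Sheaf.isIso_iff_isIso_basis (B := B) hB fun ⟨O, hO⟩ =>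
    (ConcreteCategory.isIso_iff_bijective (h.app O)).2 hO
  exact inferInstanceAs (IsIso (((sheafToPresheaf _ _).map φ).app (op W)))

theorem isIso_app_coneMap {X Y V : Scheme.{u}} (f : V ⟶ Y) (p : X ⟶ Y) (j0 : X ⟶ V) (hj : j0 ≫ f = p)
    [QuasiCompact f] [QuasiSeparated f] [QuasiCompact p] [QuasiSeparated p]
    [QuasiCompact (coneMap f p j0 hj)] [QuasiSeparated (coneMap f p j0 hj)]
    (hp : ∀ U : Y.Opens, IsIso (p.app U)) (W : (coneAlg f p j0 hj).spec.Opens) :
    IsIso ((coneMap f p j0 hj).app W) := by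
  refine isIso_app_of_affine_base _ (coneAlg f p j0 hj).π (fun U hU => ?_) W
  let A := coneAlg f p j0 hj
  have heq : f ⁻¹ᵁ U = coneMap f p j0 hj ⁻¹ᵁ (A.π ⁻¹ᵁ U) := by
    rw [← Scheme.Hom.comp_preimage, coneMap_π]
  have h1 := H8Lim.toSpec_appLE f (A := A) (coneSnd f p j0 hj) ⟨U, hU⟩ heq.le
  have hs : Function.Bijective ((coneSnd f p j0 hj).app (op U)) := by
    haveI := hp U
    have hpi := ConcreteCategory.bijective_of_isIso (p.app U)
    refine ⟨fun x y hxy => Subtype.ext (Prod.ext (hpi.1 ?_) hxy), fun v => ?_⟩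
    · exact x.2.trans ((congrArg (zeroHom f p j0 hj U) hxy).trans y.2.symm)
    · obtain ⟨r, hr⟩ := hpi.2 (zeroHom f p j0 hj U v)
      exact ⟨⟨(r, v), hr⟩, rfl⟩
  haveI : IsIso (A.gammaAff U hU) := by
    rw [← A.gammaMap_app U hU]
    haveI := RelSpecLib.isIso_gammaMap A
    infer_instance
  haveI : IsIso (A.gammaAff U hU ≫ H8Lim.algComp f (coneSnd f p j0 hj) U) :=
    haveI : IsIso (H8Lim.algComp f (coneSnd f p j0 hj) U) := (ConcreteCategory.isIso_iff_bijective _).2 hs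
    inferInstance
  haveI : IsIso ((coneMap f p j0 hj).appLE (A.π ⁻¹ᵁ U) (f ⁻¹ᵁ U) heq.le) := h1 ▸ inferInstance
  haveI : IsIso (V.presheaf.map (homOfLE heq.le).op) := by
    rw [show (homOfLE heq.le).op = (eqToHom heq).op from Subsingleton.elim _ _]; infer_instance
  haveI : IsIso ((coneMap f p j0 hj).app (A.π ⁻¹ᵁ U) ≫ V.presheaf.map (homOfLE heq.le).op) :=
    inferInstanceAs (IsIso ((coneMap f p j0 hj).appLE (A.π ⁻¹ᵁ U) (f ⁻¹ᵁ U) heq.le))
  exact (ConcreteCategory.isIso_iff_bijective _).1 (IsIso.of_isIso_comp_right _ (V.presheaf.map (homOfLE heq.le).op))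

theorem isIso_app_of_algHom {V Y : Scheme.{u}} (f : V ⟶ Y) [QuasiCompact f] [QuasiSeparated f]
    (q' : V ⟶ (RelSpec.QCAlg.directImage f).spec) (hπ : q' ≫ (RelSpec.QCAlg.directImage f).π = f)
    [QuasiCompact q'] [QuasiSeparated q']
    (hq' : AffAlg.algHom (RelSpec.QCAlg.directImage f).π f q' hπ = (RelSpec.QCAlg.directImage f).gammaMap)
    (W : (RelSpec.QCAlg.directImage f).spec.Opens) : IsIso (q'.app W) := by
  let A := RelSpec.QCAlg.directImage f
  refine isIso_app_of_affine_base q' A.π (fun U hU => ?_) W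
  haveI := RelSpecLib.isIso_gammaMap A
  haveI h1 : IsIso ((AffAlg.algHom A.π f q' hπ).app (op U)) := by
    rw [hq']; exact inferInstanceAs (IsIso (A.gammaMap.app (op U)))
  have key : ∀ (g : V ⟶ Y) (w : q' ≫ A.π = g),
      IsIso ((AffAlg.algHom A.π g q' w).app (op U)) → IsIso (q'.app (A.π ⁻¹ᵁ U)) := fun g w hg => by
    subst w
    simp only [AffAlg.algHom, eqToHom_refl, Category.comp_id] at hg
    exact hg
  haveI := key f hπ h1
  exact ConcreteCategory.bijective_of_isIso (q'.app (A.π ⁻¹ᵁ U))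

variable {X Y : Scheme.{u}} {L : X.Modules} {𝒜 : RelProj.QCGrAlg X} {jL : L ⟶ 𝒜.toModule}
  {aug : 𝒜.toQCAlg ⟶ RelSpec.QCAlg.unit X} {j0 : X ⟶ 𝒜.toQCAlg.spec}

/-- The properties of the canonical contraction of the zero section. -/
theorem contraction_props [Coh.IsQCoh L] (p : X ⟶ Y) [IsProper p] (hθ : IsIso p.c) (hL : PicF.IsInvertible L)
    (h : RelAmple.IsRelAmple p L) (hA : RelProj.IsGrSymAlg L 𝒜 jL) (haug : RelCone.IsAugmentation 𝒜 aug)
    (hj0 : RelCone.IsVertex 𝒜 aug j0)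
    (q' : 𝒜.toQCAlg.spec ⟶ (RelSpec.QCAlg.directImage (𝒜.toQCAlg.π ≫ p)).spec)
    (hq'π : q' ≫ (RelSpec.QCAlg.directImage (𝒜.toQCAlg.π ≫ p)).π = 𝒜.toQCAlg.π ≫ p)
    (hq' : AffAlg.algHom (RelSpec.QCAlg.directImage (𝒜.toQCAlg.π ≫ p)).π (𝒜.toQCAlg.π ≫ p) q' hq'π =
      (RelSpec.QCAlg.directImage (𝒜.toQCAlg.π ≫ p)).gammaMap) :
    (∀ W, IsIso (q'.app W)) ∧ IsProper q' ∧ Function.Surjective q' ∧
      (∀ x x' : X, p x = p x' → q' (j0 x) = q' (j0 x')) ∧
      (∀ v v', q' v = q' v' → v = v' ∨ ∃ x x', j0 x = v ∧ j0 x' = v' ∧ p x = p x') ∧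
      ∀ V0 : 𝒜.toQCAlg.spec.Opens, (V0 : Set 𝒜.toQCAlg.spec) = (Set.range j0.base)ᶜ →
        IsOpenImmersion (V0.ι ≫ q') ∧ Set.range (V0.ι ≫ q').base = (q'.base '' Set.range j0.base)ᶜ := by
  let π := 𝒜.toQCAlg.π
  let A := RelSpec.QCAlg.directImage (π ≫ p)
  let f := π ≫ p
  have hp : ∀ U : Y.Opens, IsIso (p.app U) := fun U => inferInstanceAs (IsIso (p.c.app (op U)))
  haveI : IsSeparated q' :=
    haveI : IsSeparated (q' ≫ A.π) := by rw [hq'π]; infer_instance
    IsSeparated.of_comp q' A.π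
  haveI : QuasiCompact q' :=
    haveI : QuasiCompact (q' ≫ A.π) := by rw [hq'π]; infer_instance
    QuasiCompact.of_comp q' A.π
  have happ := isIso_app_of_algHom f q' hq'π hq'
  have hj : j0 ≫ f = p := comp_vertex_eq hj0 p
  let cm := coneMap f p j0 hj
  haveI : IsClosedImmersion j0 :=
    haveI : IsClosedImmersion (j0 ≫ π) := by rw [hj0.comp_π]; infer_instance
    IsClosedImmersion.of_comp j0 π
  let V0 : 𝒜.toQCAlg.spec.Opens := ⟨(Set.range j0.base)ᶜ, j0.isClosedEmbedding.isClosed_range.isOpen_compl⟩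
  haveI hpr : IsProper cm := isProper_coneMap hA haug hj0 V0 rfl p h hL
  obtain ⟨hoi, hdisj⟩ := isOpenImmersion_coneMap f p j0 hj V0 rfl fun z hz => by
    obtain ⟨U, a, -, ha0, haff, hmem, -⟩ := exists_ample_piece hA haug hj0 V0 rfl p h hL (π z)
    exact ⟨U, _, ha0, hmem z rfl hz, haff⟩
  haveI := hoi
  have hcapp := isIso_app_coneMap f p j0 hj hp
  let ε := coneVertex f p j0 hj
  have hsec : ∀ x, cm (j0 x) = ε (p x) := fun x => by
    rw [← Scheme.Hom.comp_apply, ← Scheme.Hom.comp_apply]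
    exact congrArg (fun k : X ⟶ _ => k x) (section_coneMap f p j0 hj)
  have hπε : ∀ y, (coneAlg f p j0 hj).π (ε y) = y := fun y => by
    rw [← Scheme.Hom.comp_apply, coneVertex_π]; rfl
  have hcase : ∀ v, v ∈ V0 ∨ ∃ x, j0 x = v := fun v => (em (v ∈ Set.range j0.base)).symm
  have hno : ∀ v ∈ V0, ∀ x, cm v ≠ cm (j0 x) := fun v hv x e =>
    Set.eq_empty_iff_forall_notMem.1 hdisj (cm v) ⟨⟨⟨v, hv⟩, rfl⟩, ⟨p x, (hsec x).symm.trans e.symm⟩⟩
  have hfib : ∀ v v', cm v = cm v' → v = v' ∨ ∃ x x', j0 x = v ∧ j0 x' = v' ∧ p x = p x' := fun v v' e => by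
    rcases hcase v with hv | ⟨x, rfl⟩ <;> rcases hcase v' with hv' | ⟨x', rfl⟩
    · exact Or.inl (congrArg Subtype.val ((V0.ι ≫ cm).isOpenEmbedding.injective (a₁ := ⟨v, hv⟩) (a₂ := ⟨v', hv'⟩) e))
    · exact absurd e (hno v hv x')
    · exact absurd e.symm (hno v' hv' x)
    · refine Or.inr ⟨x, x', rfl, rfl, ?_⟩
      rw [hsec, hsec] at e
      rw [← hπε (p x), e, hπε]
  have hq0 : ∀ x x' : X, p x = p x' → q' (j0 x) = q' (j0 x') := fun x x' e =>
    eq_of_eq_of_affine p hp (j0 ≫ q') A.π (by rw [Category.assoc, hq'π]; exact hj) e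
  obtain ⟨Φ, hΦ, -⟩ := exists_factor cm cm.isClosedMap hcapp q' fun v v' e => by
    rcases hfib v v' e with rfl | ⟨x, x', rfl, rfl, e'⟩
    · rfl
    · exact hq0 x x' e'
  have hΦπ : Φ ≫ A.π = (coneAlg f p j0 hj).π :=
    hom_ext_of_app cm (surjective_of_app cm cm.isClosedMap hcapp) hcapp (by
      rw [← Category.assoc, hΦ, hq'π, coneMap_π])
  haveI : IsAffineHom Φ :=
    haveI : IsAffineHom (Φ ≫ A.π) := by rw [hΦπ]; infer_instance
    IsAffineHom.of_comp Φ A.π
  haveI : IsIso Φ := Resolve13.isIso_of_app_bijective Φ (fun W : A.spec.affineOpens => W.1) (fun W => W.2)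
    (iSup_affineOpens_eq_top _) fun W => by
      subst hΦ
      haveI : IsIso (Φ.app W.1 ≫ cm.app (Φ ⁻¹ᵁ W.1)) := by
        have h' := happ W.1
        rwa [Scheme.Hom.comp_app] at h'
      haveI := hcapp (Φ ⁻¹ᵁ W.1)
      exact (ConcreteCategory.isIso_iff_bijective _).1 (IsIso.of_isIso_comp_right _ (cm.app (Φ ⁻¹ᵁ W.1)))
  have hinj : Function.Injective Φ := Φ.homeomorph.injective
  have hcs := surjective_of_app cm cm.isClosedMap hcapp
  have hval : ∀ v, q' v = Φ (cm v) := fun v => by rw [← hΦ, Scheme.Hom.comp_apply]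
  refine ⟨happ, hΦ ▸ inferInstance, fun c => ?_, hq0, fun v v' e => hfib v v' (hinj (by rw [← hval, ← hval, e])), ?_⟩
  · obtain ⟨v, hv⟩ := hcs (inv Φ c)
    refine ⟨v, ?_⟩
    rw [hval, hv, ← Scheme.Hom.comp_apply, IsIso.inv_hom_id]
    rfl
  · intro V0' hV0'
    obtain rfl : V0' = V0 := Opens.ext hV0'
    refine ⟨?_, ?_⟩
    · rw [← hΦ, ← Category.assoc]; infer_instance
    · ext c
      constructor
      · rintro ⟨v, rfl⟩ ⟨_, ⟨x, rfl⟩, e⟩
        refine hno v.1 v.2 x (hinj ?_).symm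
        rw [← hval, ← hval]
        exact e.trans (Scheme.Hom.comp_apply _ _ _)
      · intro hc
        obtain ⟨v, hv⟩ := hcs (inv Φ c)
        have hv' : q' v = c := by
          rw [hval, hv, ← Scheme.Hom.comp_apply, IsIso.inv_hom_id]
          rfl
        rcases hcase v with h0 | ⟨x, rfl⟩
        · exact ⟨⟨v, h0⟩, (Scheme.Hom.comp_apply _ _ _).trans hv'⟩
        · exact absurd ⟨_, ⟨x, rfl⟩, hv'⟩ hc

end Groth.Agent.ConeC13
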