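import Groth.Agent.Resolve13.CurveBlowUp
import Mathlib

/-! Factoring through a closed surjection with `h_* O = O`. -/

set_option autoImplicit false
set_option linter.style.haveILetI false
set_option backward.isDefEq.respectTransparency.types false
set_option maxHeartbeats 1000000

universe u

open CategoryTheory CategoryTheory.Limits AlgebraicGeometry TopologicalSpace Topology

namespace Groth.Agent.ConeC13

variable {V X Z C Y : Scheme.{u}}

theorem surjective_of_app (h : V ⟶ Z) (hcl : IsClosedMap h.base) (happ : ∀ U : Z.Opens, IsIso (h.app U)) :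
    Function.Surjective h := by
  intro z
  by_contra hz
  let W : Z.Opens := ⟨(Set.range h)ᶜ, hcl.isClosed_range.isOpen_compl⟩
  have hW : h ⁻¹ᵁ W = ⊥ := Opens.ext (Set.eq_empty_iff_forall_notMem.2 fun v hv => hv ⟨v, rfl⟩)
  haveI : Subsingleton Γ(V, h ⁻¹ᵁ W) := by rw [hW]; infer_instance
  haveI := happ W
  haveI : Subsingleton Γ(Z, W) := (ConcreteCategory.bijective_of_isIso (h.app W)).1.subsingleton
  have hzW : z ∈ W := fun ⟨v, hv⟩ => hz ⟨v, hv⟩
  exact not_subsingleton (Z.presheaf.stalk z)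
    (subsingleton_of_zero_eq_one (by
      rw [← map_zero (Z.presheaf.germ W z hzW).hom, ← map_one (Z.presheaf.germ W z hzW).hom, Subsingleton.elim (0 : Γ(Z, W)) 1]))

theorem isIso_app_restrict (h : V ⟶ Z) (happ : ∀ U : Z.Opens, IsIso (h.app U)) (W : Z.Opens) (U : W.toScheme.Opens) :
    IsIso ((h ∣_ W).app U) := by
  rw [morphismRestrict_app]
  exact @IsIso.comp_isIso _ _ _ _ _ _ _ (happ _) (Functor.map_isIso _ _)

theorem hom_ext_of_app (h : V ⟶ Z) (hs : Function.Surjective h) (happ : ∀ U : Z.Opens, IsIso (h.app U))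
    {a b : Z ⟶ C} (e : h ≫ a = h ≫ b) : a = b := by
  have hbase : a.base = b.base := by
    ext z
    obtain ⟨v, rfl⟩ := hs z
    have := congrArg (fun k : V ⟶ C => k v) e
    simpa [Scheme.Hom.comp_apply] using this
  refine Scheme.Hom.ext hbase fun U => ?_
  haveI := happ (b ⁻¹ᵁ U)
  rw [← cancel_mono (h.app (b ⁻¹ᵁ U))]
  have h1 := Scheme.Hom.congr_app e U
  rw [Scheme.Hom.comp_app, Scheme.Hom.comp_app] at h1
  rw [Category.assoc, Scheme.Hom.naturality, ← Category.assoc, h1]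
  refine (Category.assoc _ _ _).trans ((congrArg ((b.app U ≫ h.app (b ⁻¹ᵁ U)) ≫ ·) ?_).trans (Category.comp_id _))
  exact (V.presheaf.map_comp _ _).symm.trans ((congrArg V.presheaf.map (Subsingleton.elim _ (𝟙 _))).trans (V.presheaf.map_id _))

theorem exists_factor (h : V ⟶ Z) (hcl : IsClosedMap h.base) (happ : ∀ U : Z.Opens, IsIso (h.app U)) (q : V ⟶ C)
    (hq : ∀ v v', h v = h v' → q v = q v') : ∃! u : Z ⟶ C, h ≫ u = q := by
  have hs := surjective_of_app h hcl happ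
  let s : Z → V := Function.surjInv hs
  have hs' : ∀ z, h (s z) = z := Function.surjInv_eq hs
  let Zu : C.affineOpens → Z.Opens := fun U => ⟨{z | q (s z) ∈ U.1}, by
    refine ((IsClosedMap.isQuotientMap hcl h.continuous hs).isOpen_preimage).1 ?_
    have : h.base ⁻¹' {z | q (s z) ∈ U.1} = q.base ⁻¹' (U.1 : Set C) := Set.ext fun v => by
      show q (s (h v)) ∈ U.1 ↔ q v ∈ U.1
      rw [hq (s (h v)) v (hs' _)]
    rw [this]
    exact U.1.2.preimage q.continuous⟩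
  have hle : ∀ U, h ⁻¹ᵁ Zu U ≤ q ⁻¹ᵁ U.1 := fun U v hv => by
    show q v ∈ U.1
    rw [← hq (s (h v)) v (hs' _)]
    exact hv
  let A : ∀ U : C.affineOpens, Γ(U.1.toScheme, ⊤) ⟶ Γ((Zu U).toScheme, ⊤) := fun U =>
    haveI : IsIso (h ∣_ Zu U).appTop := isIso_app_restrict h happ (Zu U) ⊤
    (q.resLE U.1 (h ⁻¹ᵁ Zu U) (hle U)).appTop ≫ inv (h ∣_ Zu U).appTop
  let k : ∀ U : C.affineOpens, (Zu U).toScheme ⟶ U.1.toScheme := fun U =>
    haveI : IsAffine U.1.toScheme := U.2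
    (Zu U).toScheme.toSpecΓ ≫ Spec.map (A U) ≫ U.1.toScheme.isoSpec.inv
  have hk : ∀ U, (h ∣_ Zu U) ≫ k U ≫ U.1.ι = (h ⁻¹ᵁ Zu U).ι ≫ q := fun U => by
    haveI : IsAffine U.1.toScheme := U.2
    haveI : IsIso (h ∣_ Zu U).appTop := isIso_app_restrict h happ (Zu U) ⊤
    rw [← Scheme.Hom.resLE_comp_ι q (hle U), ← Category.assoc]
    congr 1
    show _ ≫ _ ≫ _ ≫ _ = _
    rw [← Category.assoc, Scheme.toSpecΓ_naturality, Category.assoc, ← Spec.map_comp_assoc]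
    have : A U ≫ (h ∣_ Zu U).appTop = (q.resLE U.1 (h ⁻¹ᵁ Zu U) (hle U)).appTop := by
      simp only [A, Category.assoc]
      exact (congrArg (_ ≫ ·) (IsIso.inv_hom_id _)).trans (Category.comp_id _)
    rw [this, ← Scheme.toSpecΓ_naturality_assoc, Scheme.toSpecΓ_isoSpec_inv]
    simp
  have hsr : ∀ W : Z.Opens, Function.Surjective (h ∣_ W) := fun W w => by
    obtain ⟨v, hv⟩ := hs w.1
    exact ⟨⟨v, show h v ∈ W from hv ▸ w.2⟩, Subtype.ext ((morphismRestrict_base_coe h W _).trans hv)⟩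
  have hcov : IsOpenCover Zu := by
    rw [IsOpenCover, eq_top_iff]
    intro z _
    obtain ⟨U, hU, hz, -⟩ := exists_isAffineOpen_mem_and_subset (X := C) (x := q (s z)) (U := ⊤) trivial
    exact Opens.mem_iSup.2 ⟨⟨U, hU⟩, hz⟩
  have hagree : ∀ U U', Z.homOfLE (inf_le_left : Zu U ⊓ Zu U' ≤ Zu U) ≫ k U ≫ U.1.ι =
      Z.homOfLE (inf_le_right : Zu U ⊓ Zu U' ≤ Zu U') ≫ k U' ≫ U'.1.ι := fun U U' => by
    refine hom_ext_of_app (h ∣_ (Zu U ⊓ Zu U')) (hsr _) (isIso_app_restrict h happ _) ?_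
    rw [reassoc_of% (morphismRestrict_homOfLE h _ _ (inf_le_left : Zu U ⊓ Zu U' ≤ Zu U)),
      reassoc_of% (morphismRestrict_homOfLE h _ _ (inf_le_right : Zu U ⊓ Zu U' ≤ Zu U')),
      hk, hk, Scheme.homOfLE_ι_assoc, Scheme.homOfLE_ι_assoc]
  let 𝒰 := Z.openCoverOfIsOpenCover Zu hcov
  have hcomp : ∀ U U', pullback.fst (𝒰.f U) (𝒰.f U') ≫ k U ≫ U.1.ι = pullback.snd _ _ ≫ k U' ≫ U'.1.ι := fun U U' => by
    let l := IsOpenImmersion.lift (Zu U ⊓ Zu U').ι (pullback.fst (Zu U).ι (Zu U').ι ≫ (Zu U).ι) (by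
      rw [Scheme.Opens.range_ι]
      rintro _ ⟨z, rfl⟩
      refine ⟨(pullback.fst (Zu U).ι (Zu U').ι z).2, ?_⟩
      rw [pullback.condition]
      exact (pullback.snd (Zu U).ι (Zu U').ι z).2)
    have e1 : l ≫ Z.homOfLE inf_le_left = pullback.fst (Zu U).ι (Zu U').ι := by
      rw [← cancel_mono (Zu U).ι, Category.assoc, Scheme.homOfLE_ι, IsOpenImmersion.lift_fac]
    have e2 : l ≫ Z.homOfLE inf_le_right = pullback.snd (Zu U).ι (Zu U').ι := by
      rw [← cancel_mono (Zu U').ι, Category.assoc, Scheme.homOfLE_ι, IsOpenImmersion.lift_fac, pullback.condition]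
    show pullback.fst (Zu U).ι (Zu U').ι ≫ _ = pullback.snd (Zu U).ι (Zu U').ι ≫ _
    rw [← e1, ← e2, Category.assoc, Category.assoc]
    exact congrArg (l ≫ ·) (hagree U U')
  have hu : ∀ U, (Zu U).ι ≫ 𝒰.glueMorphisms (fun U => k U ≫ U.1.ι) hcomp = k U ≫ U.1.ι := fun U =>
    Scheme.Cover.ι_glueMorphisms 𝒰 _ hcomp U
  refine ⟨𝒰.glueMorphisms (fun U => k U ≫ U.1.ι) hcomp, ?_, fun u' hu' => hom_ext_of_app h hs happ ?_⟩
  · refine Scheme.Cover.hom_ext (V.openCoverOfIsOpenCover (fun U => h ⁻¹ᵁ Zu U) ?_) _ _ fun U => ?_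
    · rw [IsOpenCover, ← Scheme.Hom.preimage_iSup, hcov]; rfl
    · show (h ⁻¹ᵁ Zu U).ι ≫ h ≫ _ = (h ⁻¹ᵁ Zu U).ι ≫ q
      rw [← hk U, ← hu U, morphismRestrict_ι_assoc]
  · rw [hu']
    refine Scheme.Cover.hom_ext (V.openCoverOfIsOpenCover (fun U => h ⁻¹ᵁ Zu U) ?_) _ _ fun U => ?_
    · rw [IsOpenCover, ← Scheme.Hom.preimage_iSup, hcov]; rfl
    · show (h ⁻¹ᵁ Zu U).ι ≫ q = (h ⁻¹ᵁ Zu U).ι ≫ h ≫ _
      rw [← hk U, ← hu U, morphismRestrict_ι_assoc]

/-- A morphism to a scheme affine over the base is constant on the fibres of a map with `p_* O = O`. -/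
theorem eq_of_eq_of_affine (p : X ⟶ Y) (happ : ∀ U : Y.Opens, IsIso (p.app U)) (k : X ⟶ C) (π : C ⟶ Y)
    [IsAffineHom π] (hk : k ≫ π = p) {x x' : X} (hx : p x = p x') : k x = k x' := by
  obtain ⟨U, hU, hxU, -⟩ := exists_isAffineOpen_mem_and_subset (X := Y) (x := p x) (U := ⊤) trivial
  have hle : p ⁻¹ᵁ U ≤ k ⁻¹ᵁ (π ⁻¹ᵁ U) := by rw [← Scheme.Hom.comp_preimage, hk]
  haveI : IsAffine U.toScheme := hU
  haveI : IsAffine (π ⁻¹ᵁ U).toScheme := hU.preimage π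
  let k' := k.resLE (π ⁻¹ᵁ U) (p ⁻¹ᵁ U) hle
  let a : (p ⁻¹ᵁ U).toScheme := ⟨x, hxU⟩
  let a' : (p ⁻¹ᵁ U).toScheme := ⟨x', show p x' ∈ U from hx ▸ hxU⟩
  haveI : IsIso (p ∣_ U).appTop := isIso_app_restrict p happ U ⊤
  have h1 : (p ∣_ U) a = (p ∣_ U) a' :=
    Subtype.ext ((morphismRestrict_base_coe p U a).trans (hx.trans (morphismRestrict_base_coe p U a').symm))
  have h2 : (p ⁻¹ᵁ U).toScheme.toSpecΓ a = (p ⁻¹ᵁ U).toScheme.toSpecΓ a' := by
    refine (Spec.map (p ∣_ U).appTop).homeomorph.injective ?_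
    show Spec.map (p ∣_ U).appTop _ = Spec.map (p ∣_ U).appTop _
    rw [← Scheme.Hom.comp_apply, ← Scheme.Hom.comp_apply, ← Scheme.toSpecΓ_naturality, Scheme.Hom.comp_apply,
      Scheme.Hom.comp_apply, h1]
  have ek : k' = (p ⁻¹ᵁ U).toScheme.toSpecΓ ≫ Spec.map k'.appTop ≫ (π ⁻¹ᵁ U).toScheme.isoSpec.inv := by
    rw [← Scheme.toSpecΓ_naturality_assoc, Scheme.toSpecΓ_isoSpec_inv, Category.comp_id]
  have h3 : k' a = k' a' := by
    rw [ek]; simp only [Scheme.Hom.comp_apply, h2]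
  have h4 : ∀ c : (p ⁻¹ᵁ U).toScheme, (k' c).1 = k c.1 := fun c => by
    exact (Scheme.Hom.comp_apply k' (π ⁻¹ᵁ U).ι c).symm.trans
      ((congrArg (fun f : (p ⁻¹ᵁ U).toScheme ⟶ C => f c) (Scheme.Hom.resLE_comp_ι k hle)).trans
        (Scheme.Hom.comp_apply _ _ c))
  exact (h4 a).symm.trans ((congrArg Subtype.val h3).trans (h4 a'))

end Groth.Agent.ConeC13
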