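import Groth.Agent.ConeC13.LineSpec

/-! Normality of affine hulls. -/

set_option autoImplicit false
set_option linter.style.haveILetI false
set_option backward.isDefEq.respectTransparency.types false

universe u

open CategoryTheory CategoryTheory.Limits AlgebraicGeometry TopologicalSpace Opposite

namespace Groth.Agent.ConeC13

theorem isNormalScheme_spec_global (W : Scheme.{u}) (hloc : ∀ w : W, ∃ U : W.Opens, w ∈ U ∧ IsIntegral (U : Scheme.{u}))
    (hW : Pi1.IsNormalScheme W) : Pi1.IsNormalScheme (Spec Γ(W, ⊤)) := by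
  intro P
  let q : PrimeSpectrum Γ(W, ⊤) := P
  letI : Algebra Γ(W, ⊤) ((Spec Γ(W, ⊤)).presheaf.stalk P) := StructureSheaf.stalkAlgebra Γ(W, ⊤) q
  haveI : IsLocalization.AtPrime ((Spec Γ(W, ⊤)).presheaf.stalk P) q.asIdeal :=
    StructureSheaf.IsLocalization.to_stalk Γ(W, ⊤) q
  exact isDomain_isIntegrallyClosed_localization hloc hW q.asIdeal _

theorem isNormalScheme_hull {V Y : Scheme.{u}} (f : V ⟶ Y) [QuasiCompact f] [QuasiSeparated f]
    (hloc : ∀ v : V, ∃ U : V.Opens, v ∈ U ∧ IsIntegral (U : Scheme.{u})) (hV : Pi1.IsNormalScheme V) :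
    Pi1.IsNormalScheme (RelSpec.QCAlg.directImage f).spec := by
  let A := RelSpec.QCAlg.directImage f
  intro c
  obtain ⟨U, hU, hcU, -⟩ := exists_isAffineOpen_mem_and_subset (X := Y) (x := A.π c) (U := ⊤) trivial
  obtain ⟨q, rfl⟩ := RelSpecLib.exists_chart_eq A hU c hcU
  let W := (f ⁻¹ᵁ U).toScheme
  have hlocW : ∀ w : W, ∃ O : W.Opens, w ∈ O ∧ IsIntegral (O : Scheme.{u}) := fun w => by
    obtain ⟨O, hwO, hO⟩ := hloc w.1
    haveI := hO
    let g : ((f ⁻¹ᵁ U).ι ⁻¹ᵁ O).toScheme ⟶ O.toScheme := (f ⁻¹ᵁ U).ι ∣_ O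
    haveI : Nonempty ((f ⁻¹ᵁ U).ι ⁻¹ᵁ O).toScheme := ⟨⟨w, hwO⟩⟩
    exact ⟨(f ⁻¹ᵁ U).ι ⁻¹ᵁ O, hwO, isIntegral_of_isOpenImmersion g⟩
  have hW : Pi1.IsNormalScheme W := fun w => by
    let e := ((f ⁻¹ᵁ U).stalkIso w).commRingCatIsoToRingEquiv
    haveI := (hV w.1).1
    haveI := (hV w.1).2
    exact ⟨e.toMulEquiv.isDomain, IsIntegrallyClosed.of_equiv e.symm⟩
  let g : Spec (A.presheaf.obj (op U)) ⟶ Spec Γ(W, ⊤) := Spec.map (f ⁻¹ᵁ U).topIso.hom
  haveI : IsIso g := inferInstanceAs (IsIso (Spec.map (f ⁻¹ᵁ U).topIso.hom))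
  obtain ⟨h1, h2⟩ := isNormalScheme_spec_global W hlocW hW (g q)
  haveI := h1
  haveI := h2
  let e := ((asIso ((A.ι U hU).stalkMap q)).commRingCatIsoToRingEquiv).trans
    (asIso (g.stalkMap q)).commRingCatIsoToRingEquiv.symm
  exact ⟨e.toMulEquiv.isDomain, IsIntegrallyClosed.of_equiv e.symm⟩

end Groth.Agent.ConeC13
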