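import Groth.Agent.HenselLib.SectionsIdem
import Mathlib

/-! Local rings of functions on a normal, locally integral scheme. -/

set_option autoImplicit false
set_option linter.style.haveILetI false
set_option backward.isDefEq.respectTransparency.types false
set_option maxHeartbeats 1000000

universe u

open CategoryTheory AlgebraicGeometry TopologicalSpace Opposite Polynomial

namespace Groth.Agent.ConeC13

variable {W : Scheme.{u}}

/-- The germ of a global function. -/
noncomputable abbrev gm (w : W) : Γ(W, ⊤) →+* W.presheaf.stalk w := (W.presheaf.germ (⊤ : W.Opens) w trivial).hom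

/-- An idempotent supported exactly where the germ vanishes. -/
theorem exists_idem_zero (hloc : ∀ w : W, ∃ U : W.Opens, w ∈ U ∧ IsIntegral (U : Scheme.{u})) (x : Γ(W, ⊤)) :
    ∃ e : Γ(W, ⊤), IsIdempotentElem e ∧ ∀ w, ((gm w) x = 0 → (gm w) e = 1) ∧ ((gm w) x ≠ 0 → (gm w) e = 0) := by
  let U : Set W := {w | (gm w) x = 0}
  have hopen : IsOpen U := by
    refine isOpen_iff_forall_mem_open.2 fun w hw => ?_
    obtain ⟨O, hwO, i₁, i₂, h⟩ := W.presheaf.germ_eq (V := ⊤) (U := ⊤) w trivial trivial x 0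
      (hw.trans (map_zero (gm w)).symm)
    refine ⟨O, fun z hz => ?_, O.2, hwO⟩
    show (gm z) x = 0
    rw [← W.presheaf.germ_res_apply i₁ z hz, h, map_zero, map_zero]
  have hclosed : IsClosed U := by
    refine isOpen_compl_iff.1 (isOpen_iff_forall_mem_open.2 fun w hw => ?_)
    obtain ⟨O, hwO, hO⟩ := hloc w
    haveI := hO
    refine ⟨O, fun z hz hz0 => hw ?_, O.2, hwO⟩
    obtain ⟨O', hzO', i₁, i₂, h⟩ := W.presheaf.germ_eq (V := ⊤) (U := ⊤) z trivial trivial x 0
      ((show (gm z) x = 0 from hz0).trans (map_zero (gm z)).symm)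
    have hinj := germ_injective_of_isIntegral O.toScheme (⟨z, hz⟩ : O.toScheme) (U := ⊤) trivial
    have h0 : W.presheaf.map (homOfLE (le_top : O ≤ ⊤)).op x = 0 := by
      have hb : Function.Bijective O.topIso.hom := ConcreteCategory.bijective_of_isIso O.topIso.hom
      obtain ⟨y, hy⟩ := hb.2 (W.presheaf.map (homOfLE (le_top : O ≤ ⊤)).op x)
      have : y = 0 := hinj (by
        rw [map_zero]
        have h1 := congrArg (fun k => k y) (O.germ_stalkIso_hom (V := ⊤) ⟨z, hz⟩ trivial)
        refine (O.stalkIso ⟨z, hz⟩).commRingCatIsoToRingEquiv.injective ?_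
        rw [map_zero]
        refine h1.trans ?_
        have h2 : W.presheaf.germ O z hz (O.topIso.hom y) = 0 := by
          rw [hy, W.presheaf.germ_res_apply]
          exact hz0
        rw [← h2, Scheme.Opens.topIso_hom]
        exact (W.presheaf.germ_res_apply _ _ _ y).symm)
      rw [← hy, this, map_zero]
    show (gm w) x = 0
    rw [← W.presheaf.germ_res_apply (homOfLE (le_top : O ≤ ⊤)) w hwO x, h0, map_zero]
  obtain ⟨e, he, heU⟩ := HenselLib.SectionsIdem.exists_idempotent ⟨hclosed, hopen⟩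
  refine ⟨e, he, fun w => ?_⟩
  have hmem : w ∈ W.basicOpen e ↔ (gm w) x = 0 := Set.ext_iff.1 heU w
  rw [Scheme.mem_basicOpen W e w trivial] at hmem
  rcases HenselLib.SectionsIdem.germ_one_or_zero he w with h | h
  · exact ⟨fun _ => h, fun hne => absurd (hmem.1 (by rw [h]; exact isUnit_one)) hne⟩
  · refine ⟨fun h0 => absurd (hmem.2 h0) ?_, fun _ => h⟩
    rw [h]; exact not_isUnit_zero

/-- The local rings of global functions are integrally closed domains. -/
theorem isDomain_isIntegrallyClosed_localization (hloc : ∀ w : W, ∃ U : W.Opens, w ∈ U ∧ IsIntegral (U : Scheme.{u}))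
    (hW : ∀ w : W, IsDomain (W.presheaf.stalk w) ∧ IsIntegrallyClosed (W.presheaf.stalk w))
    (P : Ideal Γ(W, ⊤)) [P.IsPrime] (A : Type u) [CommRing A] [Algebra Γ(W, ⊤) A] [IsLocalization.AtPrime A P] :
    IsDomain A ∧ IsIntegrallyClosed A := by
  have hsec : ∀ a b : Γ(W, ⊤), (∀ w, (gm w) a = (gm w) b) → a = b := fun a b h =>
    TopCat.Presheaf.section_ext W.sheaf ⊤ a b fun w _ => h w
  have hdom : IsDomain A := by
    haveI : IsLocalRing A := IsLocalization.AtPrime.isLocalRing A P
    haveI : NoZeroDivisors A := ⟨fun {x y} hxy => by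
      obtain ⟨a, s, rfl⟩ := IsLocalization.exists_mk'_eq P.primeCompl x
      obtain ⟨b, t, rfl⟩ := IsLocalization.exists_mk'_eq P.primeCompl y
      rw [← IsLocalization.mk'_mul, IsLocalization.mk'_eq_zero_iff] at hxy
      obtain ⟨c, hc⟩ := hxy
      obtain ⟨e, he, hew⟩ := exists_idem_zero hloc b
      by_cases heP : e ∈ P
      · left
        rw [IsLocalization.mk'_eq_zero_iff]
        have h1e : 1 - e ∉ P := fun h => P.ne_top_iff_one.1 (inferInstance : P.IsPrime).ne_top
          (sub_add_cancel 1 e ▸ P.add_mem h heP)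
        refine ⟨⟨(1 - e) * c.1, P.primeCompl.mul_mem h1e c.2⟩, hsec _ _ fun w => ?_⟩
        haveI := (hW w).1
        show (gm w) ((1 - e) * c.1 * a) = (gm w) 0
        rw [map_mul, map_mul, map_sub, map_one, map_zero]
        by_cases hb : (gm w) b = 0
        · rw [(hew w).1 hb, sub_self, zero_mul, zero_mul]
        · have h := congrArg (gm w) hc
          rw [map_mul, map_mul, map_zero, ← mul_assoc] at h
          rw [(hew w).2 hb, sub_zero, one_mul]
          exact (mul_eq_zero.1 h).resolve_right hb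
      · right
        rw [IsLocalization.mk'_eq_zero_iff]
        refine ⟨⟨e, heP⟩, hsec _ _ fun w => ?_⟩
        show (gm w) (e * b) = (gm w) 0
        rw [map_mul, map_zero]
        by_cases hb : (gm w) b = 0
        · rw [hb, mul_zero]
        · rw [(hew w).2 hb, zero_mul]⟩
    exact NoZeroDivisors.to_isDomain A
  refine ⟨hdom, (isIntegrallyClosed_iff (FractionRing A)).2 fun {x} hx => ?_⟩
  obtain ⟨a, s, hs, rfl⟩ := IsFractionRing.div_surjective (A := A) x
  obtain ⟨a₀, a₁, rfl⟩ := IsLocalization.exists_mk'_eq P.primeCompl a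
  obtain ⟨s₀, s₁, rfl⟩ := IsLocalization.exists_mk'_eq P.primeCompl s
  have hs₀ : algebraMap Γ(W, ⊤) A s₀ ≠ 0 := fun h => nonZeroDivisors.ne_zero hs (by
    rw [IsLocalization.mk'_eq_mul_mk'_one, h, zero_mul])
  -- rewrite with numerators in the ring of functions
  let a₂ := a₀ * s₁.1
  let s₂ := s₀ * a₁.1
  let K := FractionRing A
  let ι : Γ(W, ⊤) →+* K := (algebraMap A K).comp (algebraMap Γ(W, ⊤) A)
  have hs₂ : ι s₂ ≠ 0 := by
    show algebraMap A K (algebraMap _ A (s₀ * a₁.1)) ≠ 0
    rw [map_mul, (IsFractionRing.injective A K).ne_iff' (map_zero _)]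
    exact mul_ne_zero hs₀ (IsLocalization.map_units A a₁).ne_zero
  have hxv : algebraMap A K (IsLocalization.mk' A a₀ a₁) / algebraMap A K (IsLocalization.mk' A s₀ s₁) = ι a₂ / ι s₂ := by
    rw [div_eq_div_iff ((IsFractionRing.injective A K).ne_iff' (map_zero _) |>.2 (nonZeroDivisors.ne_zero hs)) hs₂]
    show algebraMap A K _ * algebraMap A K (algebraMap _ A (s₀ * a₁.1)) =
      algebraMap A K (algebraMap _ A (a₀ * s₁.1)) * algebraMap A K _
    refine (map_mul _ _ _).symm.trans ((congrArg _ ?_).trans (map_mul _ _ _))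
    rw [map_mul, map_mul]
    have e1 := IsLocalization.mk'_spec A a₀ a₁
    have e2 := IsLocalization.mk'_spec A s₀ s₁
    calc IsLocalization.mk' A a₀ a₁ * (algebraMap Γ(W, ⊤) A s₀ * algebraMap Γ(W, ⊤) A a₁.1)
        = algebraMap Γ(W, ⊤) A s₀ * (IsLocalization.mk' A a₀ a₁ * algebraMap Γ(W, ⊤) A a₁.1) := mul_left_comm _ _ _
      _ = (IsLocalization.mk' A s₀ s₁ * algebraMap Γ(W, ⊤) A s₁.1) * algebraMap Γ(W, ⊤) A a₀ := by rw [e1, e2]
      _ = _ := by ring
  rw [hxv] at hx ⊢
  obtain ⟨⟨t, ht⟩, hint⟩ := IsIntegral.exists_multiple_integral_of_isLocalization P.primeCompl (ι a₂ / ι s₂) hx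
  obtain ⟨f, hf, hf0⟩ := hint
  have hf0' : f.eval₂ ι (ι (t * a₂) / ι s₂) = 0 := by
    rw [map_mul, mul_div_assoc]
    rw [Submonoid.smul_def, Algebra.smul_def] at hf0
    exact hf0
  have hev : ι ((f.scaleRoots s₂).eval (t * a₂)) = 0 := by
    have h := Polynomial.scaleRoots_eval₂_eq_zero ι hf0' (s := s₂)
    rw [mul_div_cancel₀ _ hs₂] at h
    rwa [Polynomial.eval₂_at_apply] at h
  have hev' : algebraMap Γ(W, ⊤) A ((f.scaleRoots s₂).eval (t * a₂)) = 0 :=
    IsFractionRing.injective A K (hev.trans (map_zero _).symm)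
  obtain ⟨⟨t', ht'⟩, htt⟩ := (IsLocalization.map_eq_zero_iff P.primeCompl A _).1 hev'
  obtain ⟨e, he, hew⟩ := exists_idem_zero hloc t'
  obtain ⟨d, hd, hdw⟩ := exists_idem_zero hloc s₂
  have heP : e ∈ P := by
    have h0 : e * t' = 0 := hsec _ _ fun w => by
      by_cases h : (gm w) t' = 0
      · rw [map_mul, h, mul_zero, map_zero]
      · rw [map_mul, (hew w).2 h, zero_mul, map_zero]
    exact ((inferInstance : P.IsPrime).mem_or_mem (h0 ▸ P.zero_mem)).resolve_right ht'
  have hdP : d ∈ P := by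
    by_contra h
    refine hs₂ ?_
    have h0 : d * s₂ = 0 := hsec _ _ fun w => by
      by_cases h : (gm w) s₂ = 0
      · rw [map_mul, h, mul_zero, map_zero]
      · rw [map_mul, (hdw w).2 h, zero_mul, map_zero]
    show algebraMap A K (algebraMap _ A s₂) = 0
    rw [(IsLocalization.map_eq_zero_iff P.primeCompl A s₂).2 ⟨⟨d, h⟩, h0⟩, map_zero]
  let u := (1 - e) * (1 - d)
  have huP : u ∉ P := fun h => P.ne_top_iff_one.1 (inferInstance : P.IsPrime).ne_top (by
    rcases (inferInstance : P.IsPrime).mem_or_mem h with h' | h'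
    · exact sub_add_cancel 1 e ▸ P.add_mem h' heP
    · exact sub_add_cancel 1 d ▸ P.add_mem h' hdP)
  let a' := u * (t * a₂)
  let s' := u * s₂ + (1 - u)
  have hloc' : ∀ w, (gm w) s' ≠ 0 ∧ ∃ q, q * (gm w) s' = (gm w) a' := fun w => by
    haveI := (hW w).1
    haveI := (hW w).2
    have hu : ((gm w) u = 1 ∧ (gm w) t' ≠ 0 ∧ (gm w) s₂ ≠ 0) ∨ (gm w) u = 0 := by
      show ((gm w) ((1 - e) * (1 - d)) = 1 ∧ _) ∨ _ = 0
      rw [map_mul, map_sub, map_sub, map_one]
      by_cases h1 : (gm w) t' = 0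
      · right; rw [(hew w).1 h1, sub_self, zero_mul]
      by_cases h2 : (gm w) s₂ = 0
      · right; rw [(hdw w).1 h2, sub_self, mul_zero]
      left
      exact ⟨by rw [(hew w).2 h1, (hdw w).2 h2, sub_zero, one_mul], h1, h2⟩
    rcases hu with ⟨hu, h1, h2⟩ | hu
    · have es : (gm w) s' = (gm w) s₂ := by
        show (gm w) (u * s₂ + (1 - u)) = _
        rw [map_add, map_mul, map_sub, map_one, hu, one_mul, sub_self, add_zero]
      have ea : (gm w) a' = (gm w) (t * a₂) := by
        show (gm w) (u * (t * a₂)) = _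
        rw [map_mul, hu, one_mul]
      refine ⟨es ▸ h2, ?_⟩
      rw [es, ea]
      let L := FractionRing (W.presheaf.stalk w)
      let g : W.presheaf.stalk w →+* L := algebraMap _ _
      have hgz : g ((gm w) s₂) ≠ 0 := (IsFractionRing.injective _ L).ne_iff' (map_zero _) |>.2 h2
      have hroot : (f.map (gm w)).eval₂ g (g ((gm w) (t * a₂)) / g ((gm w) s₂)) = 0 := by
        rw [Polynomial.eval₂_map]
        have h := Polynomial.scaleRoots_eval₂_mul (p := f) (g.comp (gm w)) (g ((gm w) (t * a₂)) / g ((gm w) s₂)) s₂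
        rw [RingHom.comp_apply, mul_div_cancel₀ _ hgz] at h
        have h0 : (f.scaleRoots s₂).eval₂ (g.comp (gm w)) (g ((gm w) (t * a₂))) = 0 := by
          rw [← RingHom.comp_apply, Polynomial.eval₂_at_apply, RingHom.comp_apply]
          have := congrArg (gm w) htt
          rw [map_mul, map_zero] at this
          rw [(mul_eq_zero.1 this).resolve_left h1, map_zero]
        rw [h0] at h
        exact (mul_eq_zero.1 h.symm).resolve_left (pow_ne_zero _ hgz)
      obtain ⟨q, hq⟩ := IsIntegrallyClosed.isIntegral_iff.1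
        (⟨f.map (gm w), hf.map _, hroot⟩ : _root_.IsIntegral (W.presheaf.stalk w) (g ((gm w) (t * a₂)) / g ((gm w) s₂)))
      refine ⟨q, IsFractionRing.injective _ L ?_⟩
      rw [map_mul, hq]
      exact div_mul_cancel₀ _ hgz
    · have es : (gm w) s' = 1 := by
        show (gm w) (u * s₂ + (1 - u)) = _
        rw [map_add, map_mul, map_sub, map_one, hu, zero_mul, zero_add, sub_zero]
      refine ⟨es ▸ one_ne_zero, 0, ?_⟩
      show _ = (gm w) (u * (t * a₂))
      rw [map_mul, hu, zero_mul, zero_mul]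
  choose hne q hq using hloc'
  have hexists : ∀ w : W, ∃ (O : W.Opens) (_ : w ∈ O) (c : Γ(W, O)), ∀ z (hz : z ∈ O),
      W.presheaf.germ O z hz c * (gm z) s' = (gm z) a' := fun w => by
    obtain ⟨O, hwO, c, hc⟩ := W.presheaf.exists_germ_eq (q w)
    have he : W.presheaf.germ O w hwO (c * W.presheaf.map (homOfLE (le_top : O ≤ ⊤)).op s') = (gm w) a' := by
      rw [map_mul, hc, W.presheaf.germ_res_apply]
      exact hq w
    obtain ⟨O', hwO', i₁, i₂, h⟩ := W.presheaf.germ_eq (V := ⊤) (U := O) w hwO trivial _ a' he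
    refine ⟨O', hwO', W.presheaf.map i₁.op c, fun z hz => ?_⟩
    rw [W.presheaf.germ_res_apply]
    have h' := congrArg (W.presheaf.germ O' z hz) h
    rw [W.presheaf.germ_res_apply, W.presheaf.germ_res_apply, map_mul, W.presheaf.germ_res_apply] at h'
    exact h'
  choose O hO c hc using hexists
  have hcompat : TopCat.Presheaf.IsCompatible W.sheaf.1 O c := fun i j =>
    TopCat.Presheaf.section_ext W.sheaf _ _ _ fun z hz => by
      haveI := (hW z).1
      show W.presheaf.germ _ z hz (W.presheaf.map _ (c i)) = W.presheaf.germ _ z hz (W.presheaf.map _ (c j))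
      rw [W.presheaf.germ_res_apply, W.presheaf.germ_res_apply]
      exact mul_right_cancel₀ (hne z) ((hc i z hz.1).trans (hc j z hz.2).symm)
  obtain ⟨r₀, hr, -⟩ := W.sheaf.existsUnique_gluing' O ⊤ (fun i => homOfLE le_top)
    (fun w _ => Opens.mem_iSup.2 ⟨w, hO w⟩) c hcompat
  let r : Γ(W, ⊤) := r₀
  have hrs : r * s' = a' := hsec _ _ fun w => by
    rw [map_mul, ← hc w w (hO w), ← hr w]
    exact congrArg (· * _) (W.presheaf.germ_res_apply (homOfLE le_top) w (hO w) r).symm
  refine ⟨algebraMap Γ(W, ⊤) A r * IsLocalization.mk' A 1 (⟨t, ht⟩ : P.primeCompl), ?_⟩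
  have huA : algebraMap Γ(W, ⊤) A u = 1 := by
    rcases IsIdempotentElem.iff_eq_zero_or_one.1 (((he.one_sub).mul hd.one_sub).map (algebraMap Γ(W, ⊤) A)) with h | h
    · exact absurd h (IsLocalization.map_units A (⟨u, huP⟩ : P.primeCompl)).ne_zero
    · exact h
  have hr' : algebraMap Γ(W, ⊤) A r * algebraMap _ A s₂ = algebraMap _ A t * algebraMap _ A a₂ := by
    have h := congrArg (algebraMap Γ(W, ⊤) A) hrs
    simpa [a', s', huA] using h
  rw [eq_div_iff hs₂]
  show algebraMap A K _ * algebraMap A K (algebraMap _ A s₂) = algebraMap A K (algebraMap _ A a₂)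
  rw [← map_mul]
  congr 1
  have e3 := IsLocalization.mk'_spec A (1 : Γ(W, ⊤)) (⟨t, ht⟩ : P.primeCompl)
  rw [map_one] at e3
  linear_combination (IsLocalization.mk' A (1 : Γ(W, ⊤)) (⟨t, ht⟩ : P.primeCompl)) * hr' + (algebraMap _ A a₂) * e3

end Groth.Agent.ConeC13
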