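import Groth.Agent.ConeC13.Compare
import Groth.Agent.ConeC13.NormalLoc
import Groth.Prelude.Def_Pi1
import Groth.Agent.CommAlg4.ConeGraph
import Groth.Agent.NormalExtLib.Basic

/-! The total space of a line bundle on an integral or normal scheme; affine hulls. -/

set_option autoImplicit false
set_option linter.style.haveILetI false
set_option backward.isDefEq.respectTransparency.types false
set_option maxHeartbeats 1000000

universe u

open CategoryTheory CategoryTheory.Limits AlgebraicGeometry TopologicalSpace Opposite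
open Groth.Agent.RelVALib Groth.Agent.Coherent Groth.Agent.PicLib Groth.Agent.AmpleLib

namespace Groth.Agent.ConeC13

variable {X : Scheme.{u}} {L : X.Modules} {A : RelSpec.QCAlg X} {j : L ⟶ A.toModule}

/-- The sections of the symmetric algebra over a trivialising affine open. -/
theorem exists_polyEquiv [Coh.IsQCoh L] (hA : RelSpec.IsSymAlg L A j) {U : X.Opens} (hU : IsAffineOpen U)
    {g : Γ(L, U)} (hg : IsGen L U g) :
    ∃ e : Polynomial Γ(X, U) ≃+* A.presheaf.obj (op U), ∀ r, e (Polynomial.C r) = A.str.app (op U) r := by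
  let E := Polynomial.eval₂RingHom (A.str.app (op U)).hom (show A.presheaf.obj (op U) from j.app U g)
  have hinj : ∀ {r s : Γ(X, U)}, r • g = s • g → r = s := fun {r s} h => by
    have h' := (hg U le_rfl).1 (a₁ := r) (a₂ := s) (by simpa [resM_self] using h)
    exact h'
  let c : Γ(L, U) → Γ(X, U) := hg.coef le_rfl
  have hc : ∀ m, c m • g = m := fun m => by
    have := hg.coef_spec le_rfl m
    rwa [resM_self] at this
  let b : Γ(L, U) →+ Polynomial Γ(X, U) := AddMonoidHom.mk' (fun m => Polynomial.C (c m) * Polynomial.X) fun m n => by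
    rw [show c (m + n) = c m + c n from hinj (by rw [add_smul, hc, hc, hc]), map_add, add_mul]
  obtain ⟨F, hF₀, hF₁⟩ := SymAlgLib.exists_sectionsHom hA hU (Polynomial.C : Γ(X, U) →+* _) b fun r m => by
    show Polynomial.C (c (r • m)) * Polynomial.X = _
    rw [show c (r • m) = r * c m from hinj (by rw [mul_smul, hc, hc]), map_mul, mul_assoc]
    rfl
  have hEj : ∀ m, E (Polynomial.C (c m) * Polynomial.X) = (show A.presheaf.obj (op U) from j.app U m) := fun m => by
    show Polynomial.eval₂ _ _ _ = _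
    rw [Polynomial.eval₂_mul, Polynomial.eval₂_C, Polynomial.eval₂_X]
    conv_rhs => rw [← hc m, Scheme.Modules.Hom.app_smul]
    rfl
  have h₂ : F.comp E = RingHom.id _ := by
    refine Polynomial.ringHom_ext (fun r => ?_) ?_
    · show F (Polynomial.eval₂ _ _ (Polynomial.C r)) = Polynomial.C r
      rw [Polynomial.eval₂_C]; exact hF₀ r
    · show F (Polynomial.eval₂ _ _ Polynomial.X) = Polynomial.X
      rw [Polynomial.eval₂_X]
      refine (hF₁ g).trans ?_
      show Polynomial.C (c g) * Polynomial.X = _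
      rw [show c g = 1 from hinj (by rw [one_smul, hc]), map_one, one_mul]
  refine ⟨RingEquiv.ofRingHom E F
    (SymAlgLib.sectionsHom_ext hA hU (fun r => ?_) fun m => ?_) h₂, fun r => Polynomial.eval₂_C _ _⟩
  · show E (F (A.str.app (op U) r)) = A.str.app (op U) r
    rw [hF₀]; exact Polynomial.eval₂_C _ _
  · show E (F _) = _
    rw [hF₁]; exact hEj m

theorem exists_gen_affine (hL : PicF.IsInvertible L) (x : X) :
    ∃ (U : X.Opens) (_ : IsAffineOpen U) (g : Γ(L, U)), x ∈ U ∧ IsGen L U g := by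
  obtain ⟨U₀, hx₀, g₀, hg₀⟩ := exists_isGen hL x
  obtain ⟨U, hU, hxU, hle⟩ := exists_isAffineOpen_mem_and_subset (X := X) (x := x) (U := U₀) hx₀
  exact ⟨U, hU, _, hxU, hg₀.restrict hle⟩

theorem isIntegral_spec [IsIntegral X] [Coh.IsQCoh L] (hL : PicF.IsInvertible L) (hA : RelSpec.IsSymAlg L A j) :
    IsIntegral A.spec := by
  choose U hU g hxU hg using exists_gen_affine hL
  haveI : ∀ x, Nonempty (U x).toScheme := fun x => ⟨⟨x, hxU x⟩⟩
  choose e he using fun x => exists_polyEquiv hA (hU x) (hg x)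
  haveI hd : ∀ x, IsDomain (A.presheaf.obj (op (U x))) := fun x => (e x).toMulEquiv.isDomain_iff.1 inferInstance
  let ζ : ∀ x, A.spec := fun x => A.ι (U x) (hU x) (genericPoint (Spec (A.presheaf.obj (op (U x)))))
  have hgen : ∀ x, A.π (ζ x) = genericPoint X := fun x => by
    show A.π (A.ι (U x) (hU x) _) = _
    rw [← Scheme.Hom.comp_apply, A.ι_π, Scheme.Hom.comp_apply, genericPoint_eq_bot_of_affine]
    have hs : Function.Injective (A.str.app (op (U x))) := fun a b h => by
      rw [← he, ← he] at h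
      exact Polynomial.C_injective ((e x).injective h)
    have : Spec.map (A.str.app (op (U x))) (⟨⊥, Ideal.isPrime_bot⟩ : PrimeSpectrum _) =
        (⟨⊥, Ideal.isPrime_bot⟩ : PrimeSpectrum Γ(X, U x)) :=
      PrimeSpectrum.ext (Ideal.comap_bot_of_injective _ hs)
    refine (congrArg (hU x).fromSpec this).trans ?_
    refine Eq.trans ?_ (genericPoint_eq_of_isOpenImmersion (hU x).fromSpec)
    rw [genericPoint_eq_bot_of_affine]
    rfl
  have hchart : ∀ x z, A.π z ∈ U x → ζ x ⤳ z := fun x z hz => by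
    obtain ⟨q, rfl⟩ := RelSpecLib.exists_chart_eq A (hU x) z hz
    exact (genericPoint_specializes q).map (A.ι (U x) (hU x)).continuous
  have hgU : ∀ x, genericPoint X ∈ U x := fun x =>
    ((genericPoint_spec X).mem_open_set_iff (U x).2).2 ⟨x, trivial, hxU x⟩
  let z₀ := ζ (genericPoint X)
  have hall : ∀ z, z₀ ⤳ z := fun z =>
    (hchart (genericPoint X) (ζ (A.π z)) (by rw [hgen]; exact hgU _)).trans (hchart _ z (hxU _))
  haveI : IrreducibleSpace A.spec := by
    rw [irreducibleSpace_def]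
    rw [show (⊤ : Set A.spec) = closure {z₀} from (Set.eq_univ_of_forall fun z => specializes_iff_mem_closure.1 (hall z)).symm]
    exact isIrreducible_singleton.closure
  haveI : ∀ z : A.spec, _root_.IsReduced (A.spec.presheaf.stalk z) := fun z => by
    have key : ∀ x q, _root_.IsReduced (A.spec.presheaf.stalk (A.ι (U x) (hU x) q)) := fun x q =>
      haveI : _root_.IsReduced ((Spec (A.presheaf.obj (op (U x)))).presheaf.stalk q) := inferInstance
      isReduced_of_injective ((A.ι _ (hU x)).stalkMap q).hom (ConcreteCategory.bijective_of_isIso _).1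
    obtain ⟨q, hq⟩ := RelSpecLib.exists_chart_eq A (hU _) z (hxU (A.π z))
    exact hq ▸ key _ q
  haveI : IsReduced A.spec := isReduced_of_isReduced_stalk _
  exact isIntegral_of_irreducibleSpace_of_isReduced _

theorem locallyIntegral_normal_spec [Coh.IsQCoh L] (hL : PicF.IsInvertible L) (hA : RelSpec.IsSymAlg L A j)
    (hloc : ∀ x : X, ∃ U : X.Opens, x ∈ U ∧ IsIntegral (U : Scheme.{u})) (hX : Pi1.IsNormalScheme X) :
    (∀ z : A.spec, ∃ O : A.spec.Opens, z ∈ O ∧ IsIntegral (O : Scheme.{u})) ∧ Pi1.IsNormalScheme A.spec := by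
  have hch : ∀ x : X, ∃ (U : X.Opens) (hU : IsAffineOpen U), x ∈ U ∧
      IsDomain (A.presheaf.obj (op U)) ∧ IsIntegrallyClosed (A.presheaf.obj (op U)) := fun x => by
    obtain ⟨U₁, hx₁, hint⟩ := hloc x
    haveI := hint
    obtain ⟨U₀, hU₀, g₀, hx₀, hg₀⟩ := exists_gen_affine hL x
    obtain ⟨U, hU, hxU, hle⟩ := exists_isAffineOpen_mem_and_subset (X := X) (x := x) (U := U₀ ⊓ U₁) ⟨hx₀, hx₁⟩
    have hle₁ : U ≤ U₁ := fun z hz => (hle hz).2
    obtain ⟨e, -⟩ := exists_polyEquiv hA hU (hg₀.restrict fun z hz => (hle hz).1)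
    haveI : Nonempty U.toScheme := ⟨⟨x, hxU⟩⟩
    haveI hUi : IsIntegral U.toScheme := isIntegral_of_isOpenImmersion (X.homOfLE hle₁)
    have hN : Pi1.IsNormalScheme U.toScheme := fun z => by
      let e' := (U.stalkIso z).commRingCatIsoToRingEquiv
      haveI := (hX z.1).1
      haveI := (hX z.1).2
      exact ⟨e'.toMulEquiv.isDomain, IsIntegrallyClosed.of_equiv e'.symm⟩
    haveI : IsAffine U.toScheme := hU
    haveI : IsDomain Γ(X, U) := U.topIso.commRingCatIsoToRingEquiv.symm.toMulEquiv.isDomain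
    haveI : IsIntegrallyClosed Γ(X, U) :=
      haveI : Nonempty (⊤ : U.toScheme.Opens) := ⟨⟨⟨x, hxU⟩, trivial⟩⟩
      haveI := NormalExtLib.isIntegrallyClosed_sections hN ⊤ (isAffineOpen_top _)
      IsIntegrallyClosed.of_equiv U.topIso.commRingCatIsoToRingEquiv
    exact ⟨U, hU, hxU, e.toMulEquiv.isDomain_iff.1 inferInstance, IsIntegrallyClosed.of_equiv e⟩
  refine ⟨fun z => ?_, fun z => ?_⟩
  · obtain ⟨U, hU, hzU, hd, -⟩ := hch (A.π z)
    haveI := hd
    haveI : Nonempty (A.ι U hU).opensRange.toScheme := (inferInstance : Nonempty (Spec (A.presheaf.obj (op U)))).map (A.ι U hU).isoOpensRange.hom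
    refine ⟨(A.ι U hU).opensRange, ?_, isIntegral_of_isOpenImmersion (A.ι U hU).isoOpensRange.inv⟩
    obtain ⟨q, hq⟩ := RelSpecLib.exists_chart_eq A hU z hzU
    exact ⟨q, hq⟩
  · obtain ⟨U, hU, hzU, hd, hi⟩ := hch (A.π z)
    haveI := hd
    haveI := hi
    obtain ⟨q, rfl⟩ := RelSpecLib.exists_chart_eq A hU z hzU
    obtain ⟨h1, h2⟩ := CommAlg4.Cone.isNormalScheme_spec (A.presheaf.obj (op U)) q
    haveI := h1
    haveI := h2
    let e' := (asIso ((A.ι U hU).stalkMap q)).commRingCatIsoToRingEquiv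
    exact ⟨e'.toMulEquiv.isDomain, IsIntegrallyClosed.of_equiv e'.symm⟩

/-- The canonical map to the spectrum of a direct image algebra has `O = q_* O`. -/
theorem exists_hull {V Y : Scheme.{u}} (f : V ⟶ Y) [QuasiCompact f] [QuasiSeparated f] :
    ∃ q : V ⟶ (RelSpec.QCAlg.directImage f).spec, q ≫ (RelSpec.QCAlg.directImage f).π = f ∧ ∀ W, IsIso (q.app W) := by
  let A := RelSpec.QCAlg.directImage f
  let φ : A.presheaf ⟶ f.base _* V.presheaf := 𝟙 _
  have hφ : A.str ≫ φ = f.c := Category.comp_id _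
  let q := H8Lim.toSpec f (A := A) φ
  have hqπ : q ≫ A.π = f := H8Lim.toSpec_π f φ hφ
  haveI : QuasiCompact q :=
    haveI : QuasiCompact (q ≫ A.π) := by rw [hqπ]; infer_instance
    QuasiCompact.of_comp q A.π
  haveI : QuasiSeparated q :=
    haveI : QuasiSeparated (q ≫ A.π) := by rw [hqπ]; infer_instance
    QuasiSeparated.of_comp q A.π
  refine ⟨q, hqπ, isIso_app_of_affine_base q A.π fun U hU => ?_⟩
  have heq : f ⁻¹ᵁ U = q ⁻¹ᵁ (A.π ⁻¹ᵁ U) := by rw [← Scheme.Hom.comp_preimage, hqπ]
  have h1 := H8Lim.toSpec_appLE f (A := A) φ ⟨U, hU⟩ heq.le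
  haveI : IsIso (A.gammaAff U hU) := by
    rw [← A.gammaMap_app U hU]
    haveI := RelSpecLib.isIso_gammaMap A
    infer_instance
  haveI : IsIso (A.gammaAff U hU ≫ H8Lim.algComp f φ U) :=
    haveI : IsIso (H8Lim.algComp f φ U) := (ConcreteCategory.isIso_iff_bijective _).2 Function.bijective_id
    inferInstance
  haveI : IsIso (q.appLE (A.π ⁻¹ᵁ U) (f ⁻¹ᵁ U) heq.le) := h1 ▸ inferInstance
  haveI : IsIso (V.presheaf.map (homOfLE heq.le).op) := by
    rw [show (homOfLE heq.le).op = (eqToHom heq).op from Subsingleton.elim _ _]; infer_instance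
  haveI : IsIso (q.app (A.π ⁻¹ᵁ U) ≫ V.presheaf.map (homOfLE heq.le).op) :=
    inferInstanceAs (IsIso (q.appLE (A.π ⁻¹ᵁ U) (f ⁻¹ᵁ U) heq.le))
  exact (ConcreteCategory.isIso_iff_bijective _).1 (IsIso.of_isIso_comp_right _ (V.presheaf.map (homOfLE heq.le).op))

theorem isIntegral_of_app {V Z : Scheme.{u}} [IsIntegral V] (q : V ⟶ Z) (happ : ∀ W, IsIso (q.app W)) :
    IsIntegral Z where
  nonempty := (inferInstance : Nonempty V).map q
  component_integral W hW := by
    haveI := happ W
    haveI : Nonempty (q ⁻¹ᵁ W) := by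
      by_contra hne
      haveI : Subsingleton Γ(V, q ⁻¹ᵁ W) := by
        rw [show q ⁻¹ᵁ W = ⊥ from Opens.ext (Set.eq_empty_iff_forall_notMem.2 fun v hv => hne ⟨⟨v, hv⟩⟩)]
        infer_instance
      haveI : Subsingleton Γ(Z, W) := (ConcreteCategory.bijective_of_isIso (q.app W)).1.subsingleton
      obtain ⟨⟨z, hz⟩⟩ := hW
      exact not_subsingleton (Z.presheaf.stalk z)
        (subsingleton_of_zero_eq_one (by
          rw [← map_zero (Z.presheaf.germ W z hz).hom, ← map_one (Z.presheaf.germ W z hz).hom, Subsingleton.elim (0 : Γ(Z, W)) 1]))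
    exact (asIso (q.app W)).commRingCatIsoToRingEquiv.toMulEquiv.isDomain_iff.2 inferInstance

end Groth.Agent.ConeC13
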