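import Groth.Agent.ConeC13.Compare

/-! Radicial criterion from a stratification by an open part and a closed section. -/

set_option autoImplicit false
set_option linter.style.haveILetI false
set_option backward.isDefEq.respectTransparency.types false

universe u

open CategoryTheory CategoryTheory.Limits AlgebraicGeometry TopologicalSpace

namespace Groth.Agent.ConeC13

theorem exists_lift_point {Z W : Scheme.{u}} (i : W ⟶ Z) [IsClosedImmersion i] {K : Type u} [Field K]
    (g : Spec (CommRingCat.of K) ⟶ Z) (h : g (IsLocalRing.closedPoint K) ∈ Set.range i) :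
    ∃ l, l ≫ i = g := by
  haveI : Surjective (pullback.snd i g) := ⟨fun z => by
    have : z = IsLocalRing.closedPoint K := Subsingleton.elim (α := PrimeSpectrum K) _ _
    subst this
    obtain ⟨w, hw⟩ := h
    obtain ⟨a, -, ha⟩ := Scheme.Pullback.exists_preimage_pullback (f := i) (g := g) w _ hw
    exact ⟨a, ha⟩⟩
  haveI : IsIso (pullback.snd i g) := isIso_of_isClosedImmersion_of_surjective (pullback.snd i g)
  exact ⟨inv (pullback.snd i g) ≫ pullback.fst i g, by rw [Category.assoc, pullback.condition, IsIso.inv_hom_id_assoc]⟩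

theorem universallyInjective_of_strata {Z C Y : Scheme.{u}} (u : Z ⟶ C) (W : Z.Opens) (i : Y ⟶ Z)
    [IsClosedImmersion i] (hi : Set.range i = (W : Set Z)ᶜ) [Mono (W.ι ≫ u)] [Mono (i ≫ u)]
    (hd : Set.range (W.ι ≫ u) ∩ Set.range (i ≫ u) = ∅) : UniversallyInjective u := by
  refine ((tfae_universallyInjective u).out 1 0).1 ?_
  intro K _ g₁ g₂ e
  have hsplit : ∀ g : Spec (CommRingCat.of K) ⟶ Z, (∃ l, l ≫ W.ι = g) ∨ ∃ l, l ≫ i = g := fun g => by
    by_cases h : g (IsLocalRing.closedPoint K) ∈ W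
    · left
      refine ⟨IsOpenImmersion.lift W.ι g ?_, IsOpenImmersion.lift_fac _ _ _⟩
      rw [Scheme.Opens.range_ι]
      rintro _ ⟨z, rfl⟩
      rwa [Subsingleton.elim (α := PrimeSpectrum K) z (IsLocalRing.closedPoint K)]
    · exact Or.inr (exists_lift_point i g (hi.ge h))
  have hne : ∀ (l : Spec (CommRingCat.of K) ⟶ W.toScheme) (l' : Spec (CommRingCat.of K) ⟶ Y),
      (l ≫ W.ι) ≫ u ≠ (l' ≫ i) ≫ u := fun l l' h => by
    have h' := congrArg (fun k : Spec (CommRingCat.of K) ⟶ C => k (IsLocalRing.closedPoint K)) h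
    simp only [Category.assoc] at h'
    exact Set.eq_empty_iff_forall_notMem.1 hd _ ⟨⟨_, ((Scheme.Hom.comp_apply l _ _).symm.trans rfl)⟩,
      ⟨_, ((Scheme.Hom.comp_apply l' _ _).symm.trans h'.symm)⟩⟩
  replace e : g₁ ≫ u = g₂ ≫ u := e
  rcases hsplit g₁ with ⟨l, rfl⟩ | ⟨l, rfl⟩ <;> rcases hsplit g₂ with ⟨l', rfl⟩ | ⟨l', rfl⟩
  · rw [(cancel_mono (W.ι ≫ u)).1 (by simpa only [Category.assoc] using e : l ≫ W.ι ≫ u = l' ≫ W.ι ≫ u)]
  · exact absurd e (hne l l')
  · exact absurd e.symm (hne l' l)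
  · rw [(cancel_mono (i ≫ u)).1 (by simpa only [Category.assoc] using e : l ≫ i ≫ u = l' ≫ i ≫ u)]

end Groth.Agent.ConeC13
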